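import Cfsg.Agent.Lib.SuborbitBound.Basic
import Cfsg.Agent.Lib.Cores.Fitting
import Mathlib

/-!
If a two-point stabiliser induces a group with trivial Fitting subgroup on the suborbit, then its
Fitting subgroup is trivial.
-/

set_option autoImplicit false

namespace CfsgLib.SuborbitBound

open CfsgLib.Classical22.TWCores Subgroup

variable {G : Type*} [Group G] [Finite G]

theorem coreP_inf_eq_bot {M N : Subgroup G} (hM : IsCoatom M) (hN : IsCoatom N) (hne : M ≠ N)
    (hcM : M.normalCore = ⊥) (hcN : N.normalCore = ⊥) {q : ℕ} [Fact q.Prime]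
    (hcard : Nat.card (coreP q N) = Nat.card (coreP q M))
    (hle : coreP q (M ⊓ N) ≤ coreP q M) (hnorm : M ≤ normalizer (coreP q (M ⊓ N) : Set G)) :
    coreP q (M ⊓ N) = ⊥ := by
  obtain ⟨P, hP⟩ : ∃ P, P = coreP q (M ⊓ N) := ⟨_, rfl⟩
  rw [← hP] at hle hnorm ⊢
  by_contra hb
  have hPH : P ≤ M ⊓ N := hP ▸ map_subtype_le _
  have hnP := normalizer_eq_of_core hM hcM (hPH.trans inf_le_left) hb hnorm
  obtain ⟨X, hX⟩ : ∃ X, X = coreP q N := ⟨_, rfl⟩
  have hXN : X ≤ N := hX ▸ map_subtype_le _
  have hNX : N ≤ normalizer (X : Set G) := hX ▸ le_normalizer_coreP q N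
  have hsmall : X ⊓ normalizer (P : Set G) ≤ P := by
    rw [hnP, hP]
    refine le_coreP (subnormalIn_of_normalized (le_inf inf_le_right (inf_le_left.trans hXN)) ?_)
      (IsPGroup.to_le (hX ▸ isPGroup_coreP q N) inf_le_left)
    exact CfsgLib.Solvable.le_normalizer_inf (inf_le_right.trans hNX) (inf_le_left.trans le_normalizer)
  have hXP : IsPGroup q ↥(X ⊔ P : Subgroup G) :=
    IsPGroup.to_sup_of_normal_left' (hX ▸ isPGroup_coreP q N) (hP ▸ isPGroup_coreP q _)
      ((hPH.trans inf_le_right).trans hNX)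
  haveI : Group.IsNilpotent ↥(X ⊔ P : Subgroup G) := hXP.isNilpotent
  have htop : P.subgroupOf (X ⊔ P) = ⊤ := by
    refine normalizerCondition_iff_only_full_group_self_normalizing.1 normalizerCondition_of_isNilpotent _ ?_
    refine le_antisymm (fun y hy => mem_subgroupOf.2 ?_) le_normalizer
    rw [← subgroupOf_normalizer_eq le_sup_right] at hy
    have hy2 : (y : G) ∈ ((X ⊔ P : Subgroup G) : Set G) := y.2
    rw [coe_mul_of_right_le_normalizer_left X P ((hPH.trans inf_le_right).trans hNX)] at hy2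
    obtain ⟨u, hu, v, hv, huv⟩ := hy2
    have hu' : u ∈ normalizer (P : Set G) := by
      rw [show u = (y : G) * v⁻¹ by rw [← huv, mul_inv_cancel_right]]
      exact mul_mem hy (inv_mem (le_normalizer hv))
    rw [← huv]
    exact mul_mem (hsmall ⟨hu, hu'⟩) hv
  have hXleP : X ≤ P := le_sup_left.trans (subgroupOf_eq_top.1 htop)
  have heq : X = P := eq_of_le_of_card_ge hXleP (by
    rw [hX, hcard]; exact Subgroup.card_le_of_le hle)
  refine hne ((hN.le_iff.1 ?_).resolve_left hM.1)
  rw [← hnP, ← heq]; exact hNX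

/-- If a two-point stabiliser induces on the suborbit a group with trivial Fitting subgroup, then it
has trivial Fitting subgroup itself. -/
theorem fitting_eq_bot {Ω : Type*} [MulAction G Ω] [FaithfulSMul G Ω] [Finite Ω]
    (hprim : MulAction.IsPreprimitive G Ω) (a b : Ω) (d : ℕ)
    (hd : Nat.card (MulAction.orbit (MulAction.stabilizer G a) b) = d) (h2 : 2 ≤ d)
    (hF : Cfsg.fittingSubgroup ↥(((MulAction.stabilizer G b).subgroupOf (MulAction.stabilizer G a)).map
      (MulAction.toPermHom (MulAction.stabilizer G a) (MulAction.orbit (MulAction.stabilizer G a) b))) = ⊥) :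
    ∀ q : ℕ, q.Prime → coreP q (MulAction.stabilizer G a ⊓ MulAction.stabilizer G b) = ⊥ := by
  classical
  intro q hq
  haveI : Fact q.Prime := ⟨hq⟩
  haveI := hprim.toIsPretransitive
  have hd1 := (relIndex_stabilizer (G := G) a b).trans hd
  obtain ⟨g, hg⟩ := MulAction.exists_smul_eq G a b
  set M := MulAction.stabilizer G a with hMdef
  set N := MulAction.stabilizer G b with hNdef
  have hNM : N = M.map (MulAut.conj g).toMonoidHom := by
    rw [hNdef, ← hg, MulAction.stabilizer_smul_eq_stabilizer_map_conj]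
  haveI : Nontrivial Ω := ⟨a, b, fun e => by
    subst e
    rw [inf_idem, Subgroup.relIndex_self] at hd1
    omega⟩
  have hne : M ≠ N := fun e => by
    rw [← e, inf_idem, Subgroup.relIndex_self] at hd1
    omega
  have hmax : IsCoatom M := (MulAction.isCoatom_stabilizer_iff_preprimitive G a).mpr hprim
  have hcore : M.normalCore = ⊥ := CfsgLib.Solvable.normalCore_stabilizer_eq_bot a
  have hN' : IsCoatom N := (MulAction.isCoatom_stabilizer_iff_preprimitive G b).mpr hprim
  have hcN : N.normalCore = ⊥ := CfsgLib.Solvable.normalCore_stabilizer_eq_bot b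
  -- the kernel of the action on the suborbit
  set ρ := MulAction.toPermHom M (MulAction.orbit M b) with hρ
  set K : Subgroup G := ρ.ker.map M.subtype with hK
  set P := coreP q (M ⊓ N) with hP
  have hKM : K ≤ M := map_subtype_le _
  have hKn : M ≤ normalizer (K : Set G) := le_normalizer_map inferInstance
  have hKH : K ≤ M ⊓ N := by
    refine le_inf hKM ?_
    rintro x ⟨m, hm, rfl⟩
    have h := DFunLike.congr_fun (MonoidHom.mem_ker.1 hm) (⟨b, MulAction.mem_orbit_self b⟩ : MulAction.orbit M b)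
    exact MulAction.mem_stabilizer_iff.2 (congrArg Subtype.val h)
  have hPH : P ≤ M ⊓ N := map_subtype_le _
  have hPK : P ≤ K := by
    set Q := (P.subgroupOf M).map ρ with hQ
    set I := (N.subgroupOf M).map ρ with hI
    have hQI : Q ≤ I := map_mono fun x hx => (mem_subgroupOf.2 ((hPH (mem_subgroupOf.1 hx)).2))
    have hQp : IsPGroup q (Q.subgroupOf I) :=
      ((((isPGroup_coreP q _).comap_subtype : IsPGroup q (P.subgroupOf M))).map ρ).comap_subtype
    haveI : (Q.subgroupOf I).Normal := by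
      refine (normal_subgroupOf_iff hQI).2 ?_
      rintro _ _ ⟨x, hx, rfl⟩ ⟨y, hy, rfl⟩
      refine ⟨y * x * y⁻¹, ?_, by simp⟩
      have hyH : (y : G) ∈ M ⊓ N := ⟨y.2, hy⟩
      exact ((mem_normalizer_iff.1 (le_normalizer_coreP q (M ⊓ N) hyH) (x : G)).1 hx)
    have h0 : Q.subgroupOf I = ⊥ :=
      le_bot_iff.1 (hF ▸ CfsgLib.Cores.le_fittingSubgroup hQp.isNilpotent)
    intro x hx
    have hxM : x ∈ M := (hPH hx).1
    refine ⟨⟨x, hxM⟩, ?_, rfl⟩
    have h1 : ρ ⟨x, hxM⟩ ∈ Q := ⟨⟨x, hxM⟩, hx, rfl⟩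
    have h2 : (⟨ρ ⟨x, hxM⟩, hQI h1⟩ : I) ∈ Q.subgroupOf I := h1
    rw [h0, mem_bot] at h2
    exact MonoidHom.mem_ker.2 (congrArg Subtype.val h2)
  have hle : P ≤ coreP q M :=
    le_coreP (subnormalIn_trans (subnormalIn_of_normalized hPK (hKH.trans (le_normalizer_coreP q _))) hKM hKn)
      (isPGroup_coreP q _)
  have heq : coreP q M ⊓ K = P := by
    refine le_antisymm (le_coreP (subnormalIn_of_normalized (inf_le_right.trans hKH) ?_)
      ((isPGroup_coreP q M).to_le inf_le_left)) (le_inf hle hPK)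
    exact CfsgLib.Solvable.le_normalizer_inf (inf_le_left.trans (le_normalizer_coreP q M)) (inf_le_left.trans hKn)
  refine coreP_inf_eq_bot hmax hN' hne hcore hcN ?_ hle ?_
  · rw [hNM]; exact card_coreP_conj q M g
  · rw [← hP, ← heq]
    exact CfsgLib.Solvable.le_normalizer_inf (le_normalizer_coreP q M) hKn

end CfsgLib.SuborbitBound
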