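import Cfsg.Agent.Lib.Classical22.ThompsonWielandtCores
import Cfsg.Agent.Lib.Solvable.Primitive
import Mathlib

/-!
Wielandt's bound on the index of the second core of a two-point stabiliser.
-/

set_option autoImplicit false

namespace CfsgLib.SuborbitBound

open CfsgLib.Classical22.TWCores

variable {G : Type*} [Group G] [Finite G]

theorem card_stabilizer_perm (X : Type*) [Finite X] [DecidableEq X] (x : X) :
    Nat.card (MulAction.stabilizer (Equiv.Perm X) x) = (Nat.card X - 1).factorial := by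
  classical
  have hpre : MulAction.IsPretransitive (Equiv.Perm X) X := ⟨fun a b => ⟨Equiv.swap a b, Equiv.swap_apply_left a b⟩⟩
  have h := Subgroup.card_mul_index (MulAction.stabilizer (Equiv.Perm X) x)
  rw [MulAction.index_stabilizer_of_transitive (Equiv.Perm X) x, Nat.card_perm] at h
  obtain ⟨k, hk⟩ : ∃ k, Nat.card X = k + 1 := Nat.exists_eq_succ_of_ne_zero (by
    haveI : Nonempty X := ⟨x⟩
    exact Nat.card_pos.ne')
  rw [hk, Nat.factorial_succ, mul_comm (k + 1)] at h
  rw [hk]
  exact Nat.eq_of_mul_eq_mul_right (Nat.succ_pos k) h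

/-- The order of `M` is the order of the second core times a divisor of `d! ((d-1)!)^d`. -/
theorem second_core_bound (M N : Subgroup G) (d : ℕ) (hd : (M ⊓ N).relIndex M = d)
    (hd' : (M ⊓ N).relIndex N = d) :
    ∃ k, k ∣ d.factorial * ((d - 1).factorial) ^ d ∧
      Nat.card M = Nat.card (coreIn M (coreIn M (M ⊓ N) ⊓ coreIn N (M ⊓ N))) * k := by
  classical
  set H := M ⊓ N with hH
  set A1 := coreIn M H with hA1
  set B1 := coreIn N H with hB1
  set A2 := coreIn M (A1 ⊓ B1) with hA2
  let X := ↥N ⧸ H.subgroupOf N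
  let Y := ↥M ⧸ H.subgroupOf M
  have hX : Nat.card X = d := hd'
  have hY : Nat.card Y = d := hd
  haveI : Fintype Y := Fintype.ofFinite Y
  have hA1M : A1 ≤ M := coreIn_le_left _ _
  -- the first core
  have hk1 : ∃ k1, k1 ∣ d.factorial ∧ Nat.card M = Nat.card A1 * k1 := by
    refine ⟨(A1.subgroupOf M).index, ?_, ?_⟩
    · have e : A1.subgroupOf M = (H.subgroupOf M).normalCore := by
        rw [hA1, coreIn, Subgroup.subgroupOf, Subgroup.comap_map_eq_self_of_injective M.subtype_injective]
      rw [e, Subgroup.normalCore_eq_ker, Subgroup.index_ker]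
      refine (Subgroup.card_subgroup_dvd_card _).trans ?_
      rw [Nat.card_perm]
      exact hY ▸ dvd_rfl
    · rw [← Subgroup.card_mul_index (A1.subgroupOf M),
        Nat.card_congr (Subgroup.subgroupOfEquivOfLe hA1M).toEquiv]
  obtain ⟨k1, hk1, hM⟩ := hk1
  -- the second core
  let ρ : ↥N →* Equiv.Perm X := MulAction.toPermHom ↥N X
  let pt : X := QuotientGroup.mk 1
  have hconjN : ∀ (y : Y) (a : A1), (y.out : G)⁻¹ * a * y.out ∈ H := fun y a => by
    have := coreIn_le M H (conj_mem_coreIn (Y := H) (inv_mem y.out.2) a.2)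
    rwa [inv_inv] at this
  let comp : Y → A1 →* MulAction.stabilizer (Equiv.Perm X) pt := fun y =>
    { toFun := fun a => ⟨ρ ⟨(y.out : G)⁻¹ * a * y.out, (hconjN y a).2⟩, by
        rw [MulAction.mem_stabilizer_iff]
        show ((⟨(y.out : G)⁻¹ * a * y.out, (hconjN y a).2⟩ : ↥N) • pt : X) = pt
        show ((⟨(y.out : G)⁻¹ * a * y.out, (hconjN y a).2⟩ * 1 : ↥N) : X) = ((1 : ↥N) : X)
        rw [mul_one, QuotientGroup.eq, mul_one]
        exact inv_mem (hconjN y a)⟩
      map_one' := Subtype.ext (by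
        show ρ _ = 1
        convert map_one ρ using 2
        exact Subtype.ext (by simp))
      map_mul' := fun a b => Subtype.ext (by
        show ρ _ = ρ _ * ρ _
        rw [← map_mul]
        congr 1
        exact Subtype.ext (by simp [mul_assoc])) }
  let Ψ : A1 →* (Y → MulAction.stabilizer (Equiv.Perm X) pt) := MonoidHom.mk'
    (fun a y => comp y a) fun a b => funext fun y => map_mul (comp y) a b
  have hρker : ∀ (x : G) (hx : x ∈ N), ρ ⟨x, hx⟩ = 1 ↔ x ∈ B1 := by
    intro x hx
    rw [← MonoidHom.mem_ker, ← Subgroup.normalCore_eq_ker]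
    exact ⟨fun h => ⟨⟨x, hx⟩, h, rfl⟩, fun ⟨z, hz, hzx⟩ => by
      have e : z = ⟨x, hx⟩ := Subtype.ext hzx
      exact e ▸ hz⟩
  have hker : Ψ.ker = A2.subgroupOf A1 := by
    ext a
    rw [MonoidHom.mem_ker, Subgroup.mem_subgroupOf, hA2, mem_coreIn]
    constructor
    · intro ha
      refine ⟨hA1M a.2, fun m hm => Subgroup.mem_inf.mpr ⟨conj_mem_coreIn hm a.2, ?_⟩⟩
      set y : Y := ((⟨m, hm⟩⁻¹ : ↥M) : Y) with hy
      obtain ⟨h, hh⟩ := QuotientGroup.mk_out_eq_mul (H.subgroupOf M) (⟨m, hm⟩⁻¹ : ↥M)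
      rw [← hy] at hh
      have hout : (y.out : G) = m⁻¹ * (h : ↥M) := by rw [hh]; rfl
      have hb := (hρker _ (hconjN y a).2).mp (congrArg Subtype.val (congrFun ha y))
      rw [hout] at hb
      have := conj_mem_coreIn (Y := H) (show ((h : ↥M) : G) ∈ N from (Subgroup.mem_inf.mp h.2).2) hb
      convert this using 1
      group
    · rintro ⟨-, ha⟩
      refine funext fun y => Subtype.ext ((hρker _ _).mpr ?_)
      have := (Subgroup.mem_inf.mp (ha _ (inv_mem y.out.2))).2
      rwa [inv_inv] at this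
  refine ⟨k1 * Ψ.ker.index, mul_dvd_mul hk1 ?_, ?_⟩
  · rw [Subgroup.index_ker]
    refine (Subgroup.card_subgroup_dvd_card _).trans ?_
    rw [Nat.card_fun, card_stabilizer_perm, hX, hY]
  · rw [hM, ← Subgroup.card_mul_index Ψ.ker, hker,
      Nat.card_congr (Subgroup.subgroupOfEquivOfLe (fun x hx => ((coreIn_le _ _ hx) : x ∈ A1 ⊓ B1).1)).toEquiv]
    ring

theorem relIndex_stabilizer {Ω : Type*} [MulAction G Ω] (a b : Ω) :
    (MulAction.stabilizer G a ⊓ MulAction.stabilizer G b).relIndex (MulAction.stabilizer G a) =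
      Nat.card (MulAction.orbit (MulAction.stabilizer G a) b) := by
  have e : MulAction.stabilizer ↥(MulAction.stabilizer G a) b =
      (MulAction.stabilizer G b).subgroupOf (MulAction.stabilizer G a) := by
    ext x
    simp only [MulAction.mem_stabilizer_iff, Subgroup.mem_subgroupOf]
    rfl
  rw [Subgroup.inf_relIndex_left, Nat.card_coe_set_eq, ← MulAction.index_stabilizer, e]
  rfl

/-- The second core of a two-point stabiliser bounds the point stabiliser; unless the stabiliser is
strongly constrained it is trivial for one of the two points. -/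
theorem main {Ω : Type*} [MulAction G Ω] [FaithfulSMul G Ω] [Finite Ω] (hprim : MulAction.IsPreprimitive G Ω)
    (a b : Ω) (d : ℕ) (hd : Nat.card (MulAction.orbit (MulAction.stabilizer G a) b) = d) (h2 : 2 ≤ d) :
    Nat.card (MulAction.stabilizer G a) ∣ d.factorial * ((d - 1).factorial) ^ d ∨
    ∃ p : ℕ, p.Prime ∧
      Cfsg.generalizedFittingSubgroup (MulAction.stabilizer G a) = Cfsg.pCore p (MulAction.stabilizer G a) ∧
      ∃ P : Subgroup (MulAction.stabilizer G a), P.Normal ∧ IsPGroup p P ∧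
        (∀ g : P, ((g : MulAction.stabilizer G a) : G) • b = b) ∧
        P.index ∣ d.factorial * ((d - 1).factorial) ^ d := by
  classical
  haveI := hprim.toIsPretransitive
  set M := MulAction.stabilizer G a with hMdef
  set N := MulAction.stabilizer G b with hNdef
  have hd1 : (M ⊓ N).relIndex M = d := (relIndex_stabilizer a b).trans hd
  obtain ⟨g, hg⟩ := MulAction.exists_smul_eq G a b
  have hNM : N = M.map (MulAut.conj g).toMonoidHom := by
    rw [hNdef, ← hg, MulAction.stabilizer_smul_eq_stabilizer_map_conj]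
  have hcardN : Nat.card N = Nat.card M := by
    rw [hNM, Subgroup.card_map_of_injective (MulAut.conj g).injective]
  have hcM : Nat.card (M ⊓ N : Subgroup G) * d = Nat.card M := by
    rw [← hd1, Subgroup.relIndex, ← Nat.card_congr (Subgroup.subgroupOfEquivOfLe (inf_le_left : M ⊓ N ≤ M)).toEquiv]
    exact Subgroup.card_mul_index _
  have hd2 : (M ⊓ N).relIndex N = d := by
    have h := Subgroup.card_mul_index ((M ⊓ N).subgroupOf N)
    rw [Nat.card_congr (Subgroup.subgroupOfEquivOfLe (inf_le_right : M ⊓ N ≤ N)).toEquiv, hcardN, ← hcM] at h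
    exact Nat.eq_of_mul_eq_mul_left Nat.card_pos h
  obtain ⟨k, hk, hA⟩ := second_core_bound M N d hd1 hd2
  set A2 := coreIn M (coreIn M (M ⊓ N) ⊓ coreIn N (M ⊓ N)) with hA2
  obtain ⟨k', hk', hB⟩ := second_core_bound N M d (by rwa [inf_comm]) (by rwa [inf_comm])
  set B2 := coreIn N (coreIn N (N ⊓ M) ⊓ coreIn M (N ⊓ M)) with hB2
  by_cases hA0 : A2 = ⊥
  · left; rw [hA, hA0, Subgroup.card_bot, one_mul]; exact hk
  by_cases hB0 : B2 = ⊥
  · left; rw [← hcardN, hB, hB0, Subgroup.card_bot, one_mul]; exact hk'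
  right
  haveI : Nontrivial Ω := ⟨a, b, fun e => by
    subst e
    rw [inf_idem, Subgroup.relIndex_self] at hd1
    omega⟩
  have hne : M ≠ N := fun e => by
    rw [← e, inf_idem, Subgroup.relIndex_self] at hd1
    omega
  have hmax : IsCoatom M := (MulAction.isCoatom_stabilizer_iff_preprimitive G a).mpr hprim
  have hcore : M.normalCore = ⊥ := CfsgLib.Solvable.normalCore_stabilizer_eq_bot a
  have hN' : IsCoatom N := (MulAction.isCoatom_stabilizer_iff_preprimitive G b).mpr hprim
  have hcN : N.normalCore = ⊥ := CfsgLib.Solvable.normalCore_stabilizer_eq_bot b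
  have hcard : ∀ q, Nat.card (coreP q N) = Nat.card (coreP q M) := fun q => by
    rw [hNM]; exact card_coreP_conj q M g
  have e1 : A2 ≤ coreIn N (M ⊓ N) := fun x hx => ((coreIn_le M _ hx) : x ∈ coreIn M (M ⊓ N) ⊓ coreIn N (M ⊓ N)).2
  have e2 : B2 ≤ coreIn M (M ⊓ N) := fun x hx => by
    have h := ((coreIn_le N _ hx) : x ∈ coreIn N (N ⊓ M) ⊓ coreIn M (N ⊓ M)).2
    rwa [inf_comm] at h
  obtain ⟨p, hp, hpg, hF, -⟩ := CfsgLib.Classical22.TWCores.main hmax hN' hne hcore hcN hcard hA0 hB0 e1 e2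
    (le_normalizer_coreIn _ _) (le_normalizer_coreIn _ _)
  haveI : Fact p.Prime := ⟨hp⟩
  have hA2M : A2 ≤ M := coreIn_le_left _ _
  refine ⟨p, hp, hF, A2.subgroupOf M, (Subgroup.normal_subgroupOf_iff_le_normalizer hA2M).mpr
    (le_normalizer_coreIn _ _), ?_, ?_, ?_⟩
  · exact ((hpg.to_le le_sup_left).comap_subtype : IsPGroup p (A2.subgroupOf M))
  · intro x
    exact MulAction.mem_stabilizer_iff.mp ((coreIn_le N _ (e1 x.2)) : ((x : M) : G) ∈ M ⊓ N).2
  · have h := Subgroup.card_mul_index (A2.subgroupOf M)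
    rw [Nat.card_congr (Subgroup.subgroupOfEquivOfLe hA2M).toEquiv, hA] at h
    rw [Nat.eq_of_mul_eq_mul_left Nat.card_pos h]
    exact hk

end CfsgLib.SuborbitBound
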