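import Cfsg.Agent.Lib.SuborbitBound.Basic
import Cfsg.Agent.Lib.LocalEven.AmalgamZ.Main
import Cfsg.Agent.Lib.LocalEven.AmalgamBasic
import Cfsg.Agent.Lib.Classical.QuadBinary

/-!
Two conjugate subgroups of index three over their intersection, with no common normal subgroup.
-/

set_option autoImplicit false

namespace CfsgLib.SuborbitBound.Three

open Subgroup CfsgLib.Classical22.TWCores CfsgLib.LocalEven

variable {G : Type*} [Group G] [Finite G]

/-- The five possible groups. -/
def Five (H : Type*) [Group H] : Prop :=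
  Nonempty (H ≃* Multiplicative (ZMod 3)) ∨ Nonempty (H ≃* Equiv.Perm (Fin 3)) ∨
    Nonempty (H ≃* DihedralGroup 6) ∨ Nonempty (H ≃* Equiv.Perm (Fin 4)) ∨
    Nonempty (H ≃* Equiv.Perm (Fin 4) × Multiplicative (ZMod 2))

theorem five_congr {H K : Type*} [Group H] [Group K] (e : H ≃* K) (h : Five K) : Five H := by
  unfold Five at h ⊢
  exact h.imp (·.map e.trans) (Or.imp (·.map e.trans) (Or.imp (·.map e.trans)
    (Or.imp (·.map e.trans) (·.map e.trans))))

/-- The hypotheses: `T` has index three in both and contains no common normal subgroup. -/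
structure Pair (H K T : Subgroup G) : Prop where
  inf : T = H ⊓ K
  indH : T.relIndex H = 3
  indK : T.relIndex K = 3
  free : ∀ N : Subgroup G, N ≤ T → (∀ x ∈ H, ∀ n ∈ N, x * n * x⁻¹ ∈ N) →
    (∀ x ∈ K, ∀ n ∈ N, x * n * x⁻¹ ∈ N) → N = ⊥

variable {H K T : Subgroup G}

theorem Pair.leH (P : Pair H K T) : T ≤ H := P.inf ▸ inf_le_left

theorem Pair.leK (P : Pair H K T) : T ≤ K := P.inf ▸ inf_le_right

theorem Pair.symm (P : Pair H K T) : Pair K H T :=
  ⟨P.inf.trans (inf_comm _ _), P.indK, P.indH, fun N hN h1 h2 => P.free N hN h2 h1⟩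

theorem card_eq_mul {A B : Subgroup G} (h : A ≤ B) : Nat.card A * A.relIndex B = Nat.card B := by
  rw [← relIndex_bot_left A, ← relIndex_bot_left B]
  exact relIndex_mul_relIndex _ _ _ bot_le h

theorem core_relIndex_dvd (hTH : T ≤ H) (hind : T.relIndex H = 3) :
    (coreIn H T).relIndex H ∣ 6 := by
  classical
  have hY : Nat.card (↥H ⧸ T.subgroupOf H) = 3 := hind
  haveI : Fintype (↥H ⧸ T.subgroupOf H) := Fintype.ofFinite _
  have e : (coreIn H T).subgroupOf H = (T.subgroupOf H).normalCore := by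
    rw [coreIn, Subgroup.subgroupOf, Subgroup.comap_map_eq_self_of_injective H.subtype_injective]
  rw [relIndex, e, Subgroup.normalCore_eq_ker, Subgroup.index_ker]
  refine (Subgroup.card_subgroup_dvd_card _).trans ?_
  rw [Nat.card_perm, hY]
  decide

theorem core_relIndex_T (hTH : T ≤ H) (hind : T.relIndex H = 3) :
    (coreIn H T).relIndex T ∣ 2 := by
  have h := core_relIndex_dvd hTH hind
  rw [← relIndex_mul_relIndex _ _ _ (coreIn_le H T) hTH, hind, show (6 : ℕ) = 2 * 3 by norm_num] at h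
  exact Nat.dvd_of_mul_dvd_mul_right (by norm_num) h

theorem odd_mem_core (hTH : T ≤ H) (hind : T.relIndex H = 3) {x : G} (hx : x ∈ T)
    (ho : Odd (orderOf x)) : x ∈ coreIn H T := by
  haveI : ((coreIn H T).subgroupOf T).Normal :=
    (normal_subgroupOf_iff_le_normalizer (coreIn_le H T)).2 (hTH.trans (le_normalizer_coreIn _ _))
  have h := pow_index_mem ((coreIn H T).subgroupOf T) (⟨x, hx⟩ : T)
  obtain ⟨k, hk⟩ := core_relIndex_T hTH hind
  have h2 : x ^ 2 ∈ coreIn H T := by
    rw [hk, pow_mul]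
    exact pow_mem (mem_subgroupOf.1 h) k
  obtain ⟨j, hj⟩ := ho
  have hx1 : x ^ (2 * j + 1) = 1 := hj ▸ pow_orderOf_eq_one x
  have : x = ((x ^ 2) ^ j)⁻¹ := by
    rw [eq_inv_iff_mul_eq_one, ← pow_mul, ← pow_succ', hx1]
  rw [this]
  exact inv_mem (pow_mem h2 j)

theorem Pair.isPGroup (P : Pair H K T) : IsPGroup 2 T := by
  set D := closure {x : G | x ∈ T ∧ Odd (orderOf x)} with hD
  have hle : D ≤ T := (closure_le _).2 fun x hx => hx.1
  have hconj : ∀ {M : Subgroup G}, T ≤ M → T.relIndex M = 3 →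
      ∀ g ∈ M, ∀ n ∈ D, g * n * g⁻¹ ∈ D := by
    intro M hTM hM g hg n hn
    induction hn using closure_induction with
    | mem x hx =>
      refine subset_closure ⟨coreIn_le M T (conj_mem_coreIn hg (odd_mem_core hTM hM hx.1 hx.2)), ?_⟩
      rw [show g * x * g⁻¹ = MulAut.conj g x from rfl, MulEquiv.orderOf_eq]
      exact hx.2
    | one => simp
    | mul a b _ _ ha hb =>
      rw [show g * (a * b) * g⁻¹ = g * a * g⁻¹ * (g * b * g⁻¹) by group]
      exact mul_mem ha hb
    | inv a _ ha =>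
      rw [show g * a⁻¹ * g⁻¹ = (g * a * g⁻¹)⁻¹ by group]
      exact inv_mem ha
  have hbot : D = ⊥ := P.free D hle (hconj P.leH P.indH) (hconj P.leK P.indK)
  refine IsPGroup.of_card (n := (Nat.card T).primeFactorsList.length)
    (Nat.eq_prime_pow_of_unique_prime_dvd Nat.card_pos.ne' fun {r} hr hrd => ?_)
  by_contra hne
  haveI := Fact.mk hr
  obtain ⟨x, hx⟩ := exists_prime_orderOf_dvd_card' (G := T) r hrd
  have hxo : orderOf (x : G) = r := by rw [Subgroup.orderOf_coe]; exact hx
  have : (x : G) ∈ D := subset_closure ⟨x.2, hxo ▸ hr.odd_of_ne_two hne⟩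
  rw [hbot, mem_bot] at this
  rw [this, orderOf_one] at hxo
  exact hr.one_lt.ne hxo

theorem Pair.sylow (P : Pair H K T) : IsSylowSub 2 T H := by
  haveI := Fact.mk Nat.prime_two
  obtain ⟨n, hn⟩ := IsPGroup.iff_card.1 P.isPGroup
  refine ⟨P.leH, ?_⟩
  rw [← card_eq_mul P.leH, P.indH, hn]
  congr 1
  rw [Nat.factorization_mul (by positivity) (by norm_num), Nat.Prime.factorization_pow Nat.prime_two,
    Finsupp.add_apply, Finsupp.single_eq_same,
    Nat.factorization_eq_zero_of_not_dvd (by norm_num : ¬ 2 ∣ 3), add_zero]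

/-- An element moving `H` to `K` may be taken to fix `T`. -/
theorem Pair.exists_fix (P : Pair H K T) (g : G) (hg : K = H.map (MulAut.conj g).toMonoidHom) :
    ∃ c : G, K = H.map (MulAut.conj c).toMonoidHom ∧ ∀ x, x ∈ T ↔ c * x * c⁻¹ ∈ T := by
  haveI := Fact.mk Nat.prime_two
  have h1 : IsSylowSub 2 (T.map (MulAut.conj g).toMonoidHom) K := hg ▸ P.sylow.map (MulAut.conj g)
  obtain ⟨k, hk, hkT⟩ := IsSylowSub.exists_conj h1 P.symm.sylow
  refine ⟨k * g, ?_, fun x => ?_⟩
  · ext y
    constructor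
    · intro hy
      have : k⁻¹ * y * k ∈ K := mul_mem (mul_mem (inv_mem hk) hy) hk
      rw [hg] at this
      obtain ⟨z, hz, hzy⟩ := this
      refine ⟨z, hz, ?_⟩
      simp only [MulEquiv.coe_toMonoidHom, MulAut.conj_apply] at hzy ⊢
      calc k * g * z * (k * g)⁻¹ = k * (g * z * g⁻¹) * k⁻¹ := by group
        _ = y := by rw [hzy]; group
    · rintro ⟨z, hz, rfl⟩
      have hz' : g * z * g⁻¹ ∈ K := by rw [hg]; exact ⟨z, hz, rfl⟩
      simp only [MulEquiv.coe_toMonoidHom, MulAut.conj_apply]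
      rw [show k * g * z * (k * g)⁻¹ = k * (g * z * g⁻¹) * k⁻¹ by group]
      exact mul_mem (mul_mem hk hz') (inv_mem hk)
  · constructor
    · intro hx
      rw [← hkT]
      exact ⟨g * x * g⁻¹, ⟨x, hx, rfl⟩, by simp [mul_assoc]⟩
    · intro hx
      rw [← hkT] at hx
      obtain ⟨_, ⟨z, hz, rfl⟩, hzx⟩ := hx
      simp only [MulEquiv.coe_toMonoidHom, MulAut.conj_apply] at hzx
      have : z = x := by
        calc z = (k * g)⁻¹ * (k * (g * z * g⁻¹) * k⁻¹) * (k * g) := by group
          _ = x := by rw [hzx]; group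
      exact this ▸ hz

/-- The hypotheses of the amalgam lemma, or a small group. -/
theorem Pair.vertex (P : Pair H K T) (c : G) (hc : K = H.map (MulAut.conj c).toMonoidHom)
    (hcT : ∀ x, x ∈ T ↔ c * x * c⁻¹ ∈ T) : Five H ∨ AmalgamZ.VertexHyp T H 3 := by
  classical
  haveI := Fact.mk Nat.prime_two
  haveI : Fact (Nat.Prime 3) := ⟨Nat.prime_three⟩
  set A := coreIn H T with hA
  have hAT : A ≤ T := coreIn_le H T
  have hcardH : Nat.card T * 3 = Nat.card H := P.indH ▸ card_eq_mul P.leH
  have hKconj : ∀ k ∈ K, ∃ h ∈ H, k = c * h * c⁻¹ := fun k hk => by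
    rw [hc] at hk
    obtain ⟨h, hh, rfl⟩ := hk
    exact ⟨h, hh, rfl⟩
  -- the kernel has index one or two
  rcases (Nat.dvd_prime Nat.prime_two).1 (core_relIndex_T P.leH P.indH) with h1 | h2
  · -- `T` normal: trivial
    left; left
    have hTA : T ≤ A := relIndex_eq_one.1 h1
    have hnH : ∀ x ∈ H, ∀ n ∈ T, x * n * x⁻¹ ∈ T := fun x hx n hn =>
      hAT (conj_mem_coreIn hx (hTA hn))
    have hT1 : T = ⊥ := P.free T le_rfl hnH fun x hx n hn => by
      obtain ⟨h, hh, rfl⟩ := hKconj x hx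
      have hn' : c⁻¹ * n * c ∈ T := (hcT _).2 (by simpa [mul_assoc] using hn)
      have := (hcT _).1 (hnH h hh _ hn')
      convert this using 1
      group
    rw [hT1, card_bot, one_mul] at hcardH
    exact ⟨mulEquivOfPrimeCardEq (p := 3) hcardH.symm (by simp)⟩
  have hcardT : Nat.card A * 2 = Nat.card T := h2 ▸ card_eq_mul hAT
  have hA2 : IsPGroup 2 A := P.isPGroup.to_le hAT
  have hcoreA : Cfsg.pCoreOf 2 H = A := by
    refine le_antisymm (fun x hx => ?_) (le_pCoreOf (hAT.trans P.leH) hA2 (le_normalizer_coreIn _ _))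
    refine mem_coreIn.2 ⟨pCoreOf_le 2 H hx, fun m hm => IsSylowSub.pCoreOf_le P.sylow ?_⟩
    exact (mem_normalizer_iff.1 (le_normalizer_pCoreOf 2 H hm) x).1 hx
  set C := H ⊓ centralizer (A : Set G) with hC
  by_cases hchar : C ≤ A
  · by_cases hT1 : T = ⊥
    · left; left
      rw [hT1, card_bot, one_mul] at hcardH
      exact ⟨mulEquivOfPrimeCardEq (p := 3) hcardH.symm (by simp)⟩
    right
    refine ⟨P.leH, inferInstance, by rw [← hcardH, mul_comm], hcoreA.le.trans hAT,
      by rw [hcoreA, ← hcardT, mul_comm], by rw [hcoreA]; exact hchar, fun hcon => hT1 ?_⟩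
    set Z := T ⊓ centralizer (T : Set G) with hZ
    set N := Cfsg.omegaOne 2 Z with hN
    have hZc : ∀ x ∈ Z, c⁻¹ * x * c ∈ Z := by
      intro x hx
      obtain ⟨hx1, hx2⟩ := mem_inf.1 hx
      refine mem_inf.2 ⟨(hcT _).2 (by simpa [mul_assoc] using hx1), mem_centralizer_iff.2 fun t ht => ?_⟩
      have h := mem_centralizer_iff.1 hx2 _ ((hcT t).1 ht)
      calc t * (c⁻¹ * x * c) = c⁻¹ * (c * t * c⁻¹ * x) * c := by group
        _ = c⁻¹ * (x * (c * t * c⁻¹)) * c := by rw [h]
        _ = c⁻¹ * x * c * t := by group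
    have hNc : ∀ x ∈ N, c⁻¹ * x * c ∈ N := by
      intro x hx
      induction hx using closure_induction with
      | mem y hy =>
        refine subset_closure ⟨hZc y hy.1, ?_⟩
        have hy2 : y ^ 2 = 1 := hy.2
        calc (c⁻¹ * y * c) ^ 2 = c⁻¹ * y ^ 2 * c := by rw [pow_two, pow_two]; group
          _ = 1 := by rw [hy2]; group
      | one => simp
      | mul a b _ _ ha hb =>
        rw [show c⁻¹ * (a * b) * c = c⁻¹ * a * c * (c⁻¹ * b * c) by group]
        exact mul_mem ha hb
      | inv a _ ha =>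
        rw [show c⁻¹ * a⁻¹ * c = (c⁻¹ * a * c)⁻¹ by group]
        exact inv_mem ha
    have hNT : N ≤ T := (closure_le _).2 fun x hx => (mem_inf.1 hx.1).1
    have hbot : N = ⊥ := P.free N hNT
      (fun h hh n hn => by rw [← mem_centralizer_iff.1 (hcon hh) n hn, mul_inv_cancel_right]; exact hn)
      (fun k hk n hn => by
        obtain ⟨h, hh, rfl⟩ := hKconj k hk
        have e := mem_centralizer_iff.1 (hcon hh) _ (hNc n hn)
        have : c * h * c⁻¹ * n * (c * h * c⁻¹)⁻¹ = n := by
          calc c * h * c⁻¹ * n * (c * h * c⁻¹)⁻¹ = c * (h * (c⁻¹ * n * c)) * (h⁻¹ * c⁻¹) := by group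
            _ = c * (c⁻¹ * n * c * h) * (h⁻¹ * c⁻¹) := by rw [e]
            _ = n := by group
        rw [this]; exact hn)
    by_contra hne
    haveI := (nontrivial_iff_ne_bot T).2 hne
    haveI := P.isPGroup.center_nontrivial
    obtain ⟨n, hn⟩ := IsPGroup.iff_card.1 (P.isPGroup.to_subgroup (center T))
    have h2d : 2 ∣ Nat.card (center T) := by
      rw [hn]; refine dvd_pow_self 2 fun h0 => ?_
      have := Finite.one_lt_card (α := center T)
      rw [hn, h0, pow_zero] at this
      omega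
    obtain ⟨z, hz⟩ := exists_prime_orderOf_dvd_card' (G := center T) 2 h2d
    have hzN : ((z : T) : G) ∈ N := subset_closure ⟨mem_inf.2 ⟨(z : T).2,
      mem_centralizer_iff.2 fun t ht => congrArg Subtype.val (mem_center_iff.1 z.2 ⟨t, ht⟩)⟩, by
        rw [← hz, ← Subgroup.orderOf_coe, ← Subgroup.orderOf_coe, pow_orderOf_eq_one]⟩
    rw [hbot, mem_bot] at hzN
    rw [← Subgroup.orderOf_coe, ← Subgroup.orderOf_coe, hzN, orderOf_one] at hz
    omega
  -- an element of order three centralizes the core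
  left
  have hCn : H ≤ normalizer (C : Set G) := le_normalizer_of_conj fun h hh x hx => by
    obtain ⟨hx1, hx2⟩ := mem_inf.1 hx
    refine mem_inf.2 ⟨mul_mem (mul_mem hh hx1) (inv_mem hh), mem_centralizer_iff.2 fun a ha => ?_⟩
    have ha' : h⁻¹ * a * h ∈ A := by have h' := conj_mem_coreIn (inv_mem hh) ha; rwa [inv_inv] at h'
    have e := mem_centralizer_iff.1 hx2 _ ha'
    calc a * (h * x * h⁻¹) = h * (h⁻¹ * a * h * x) * h⁻¹ := by group
      _ = h * (x * (h⁻¹ * a * h)) * h⁻¹ := by rw [e]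
      _ = h * x * h⁻¹ * a := by group
  obtain ⟨d, hdC, hd⟩ : ∃ d ∈ C, orderOf d = 3 := by
    by_contra hcon
    refine hchar ((le_pCoreOf inf_le_left ?_ hCn).trans hcoreA.le)
    obtain ⟨m, hm⟩ := IsPGroup.iff_card.1 P.isPGroup
    have hdvd : Nat.card C ∣ 2 ^ m * 3 := hm ▸ hcardH ▸ card_dvd_of_le inf_le_left
    have h3 : ¬ 3 ∣ Nat.card C := fun h3 => by
      obtain ⟨x, hx⟩ := exists_prime_orderOf_dvd_card' (G := C) 3 h3
      exact hcon ⟨x, x.2, by rw [Subgroup.orderOf_coe]; exact hx⟩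
    obtain ⟨j, -, hj⟩ := (Nat.dvd_prime_pow Nat.prime_two).1
      (((Nat.prime_three.coprime_iff_not_dvd.2 h3).symm).dvd_of_dvd_mul_right hdvd)
    exact IsPGroup.of_card hj
  obtain ⟨hdH, hdA⟩ := mem_inf.1 hdC
  have hdT : d ∉ T := fun h => by
    obtain ⟨m, hm⟩ := IsPGroup.iff_card.1 P.isPGroup
    have := orderOf_dvd_natCard (⟨d, h⟩ : T)
    rw [Subgroup.orderOf_mk, hd, hm] at this
    exact absurd ((Nat.prime_dvd_prime_iff_eq Nat.prime_three Nat.prime_two).1
      (Nat.prime_three.dvd_of_dvd_pow this)) (by norm_num)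
  have hgen : ∀ {N : Subgroup G}, T ≤ normalizer (N : Set G) → d ∈ normalizer (N : Set G) →
      H ≤ normalizer (N : Set G) := by
    intro N hT hd'
    set M := normalizer (N : Set G) ⊓ H with hM
    have hTM : T ≤ M := le_inf hT P.leH
    have hMH : M ≤ H := inf_le_right
    have h3 := relIndex_mul_relIndex T M H hTM hMH
    rw [P.indH] at h3
    rcases (Nat.dvd_prime Nat.prime_three).1 (Dvd.intro _ h3) with h | h
    · exact absurd (relIndex_eq_one.1 h (mem_inf.2 ⟨hd', hdH⟩)) hdT
    · rw [h] at h3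
      exact (relIndex_eq_one.1 (by omega : M.relIndex H = 1)).trans inf_le_left
  -- the cores meet trivially
  set B := A.map (MulAut.conj c).toMonoidHom with hB
  have hBT : B ≤ T := by
    rintro _ ⟨a, ha, rfl⟩
    exact (hcT a).1 (hAT ha)
  have hTA : ∀ t ∈ T, ∀ a ∈ A, t * a * t⁻¹ ∈ A := fun t ht a ha => conj_mem_coreIn (P.leH ht) ha
  have hTB : ∀ t ∈ T, ∀ b ∈ B, t * b * t⁻¹ ∈ B := by
    rintro t ht _ ⟨a, ha, rfl⟩
    refine ⟨c⁻¹ * t * c * a * (c⁻¹ * t * c)⁻¹, hTA _ ((hcT _).2 (by simpa [mul_assoc] using ht)) a ha, ?_⟩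
    simp only [MulEquiv.coe_toMonoidHom, MulAut.conj_apply]
    group
  have hAB : A ⊓ B = ⊥ := by
    have hTN : T ≤ normalizer ((A ⊓ B : Subgroup G) : Set G) := le_normalizer_of_conj fun t ht x hx =>
      mem_inf.2 ⟨hTA t ht x (mem_inf.1 hx).1, hTB t ht x (mem_inf.1 hx).2⟩
    refine P.free _ (inf_le_left.trans hAT) (fun h hh n hn => ?_) fun k hk n hn => ?_
    · refine (mem_normalizer_iff.1 (hgen hTN (mem_normalizer_iff.2 fun x => ?_) hh) n).1 hn
      constructor
      · intro hx
        rw [← mem_centralizer_iff.1 hdA x (mem_inf.1 hx).1, mul_inv_cancel_right]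
        exact hx
      · intro hx
        have e := mem_centralizer_iff.1 hdA _ (mem_inf.1 hx).1
        have : x = d * x * d⁻¹ := by
          calc x = d⁻¹ * (d * x * d⁻¹ * d) := by group
            _ = d⁻¹ * (d * (d * x * d⁻¹)) := by rw [e]
            _ = d * x * d⁻¹ := by group
        rw [this]; exact hx
    · obtain ⟨h, hh, rfl⟩ := hKconj k hk
      set N := (A ⊓ B).map (MulAut.conj c⁻¹).toMonoidHom with hN
      have hNA : N ≤ A := by
        rintro _ ⟨x, hx, rfl⟩
        obtain ⟨a, ha, hax⟩ := (mem_inf.1 hx).2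
        simp only [MulEquiv.coe_toMonoidHom, MulAut.conj_apply] at hax ⊢
        rw [← hax]
        simpa [mul_assoc] using ha
      have hdN : d ∈ normalizer (N : Set G) := mem_normalizer_iff.2 fun x => by
        constructor
        · intro hx
          rw [← mem_centralizer_iff.1 hdA x (hNA hx), mul_inv_cancel_right]
          exact hx
        · intro hx
          have e := mem_centralizer_iff.1 hdA _ (hNA hx)
          have : x = d * x * d⁻¹ := by
            calc x = d⁻¹ * (d * x * d⁻¹ * d) := by group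
              _ = d⁻¹ * (d * (d * x * d⁻¹)) := by rw [e]
              _ = d * x * d⁻¹ := by group
          rw [this]; exact hx
      have hTN' : T ≤ normalizer (N : Set G) := le_normalizer_of_conj fun t ht x hx => by
        obtain ⟨y, hy, rfl⟩ := hx
        refine ⟨c * t * c⁻¹ * y * (c * t * c⁻¹)⁻¹, (mem_normalizer_iff.1 (hTN ((hcT t).1 ht)) y).1 hy, ?_⟩
        simp only [MulEquiv.coe_toMonoidHom, MulAut.conj_apply]
        group
      have hn' : c⁻¹ * n * c ∈ N := ⟨n, hn, by simp⟩
      obtain ⟨y, hy, hyx⟩ := (mem_normalizer_iff.1 (hgen hTN' hdN hh) _).1 hn'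
      simp only [MulEquiv.coe_toMonoidHom, MulAut.conj_apply] at hyx
      have : c * h * c⁻¹ * n * (c * h * c⁻¹)⁻¹ = y := by
        calc c * h * c⁻¹ * n * (c * h * c⁻¹)⁻¹ = c * (h * (c⁻¹ * n * c) * h⁻¹) * c⁻¹ := by group
          _ = y := by rw [← hyx]; group
      rw [this]; exact hy
  have hcB : Nat.card B = Nat.card A := card_map_of_injective (MulAut.conj c).injective
  have hsmall : Nat.card A ≤ 2 := by
    have hinj : Function.Injective (fun x : A × B => (⟨x.1 * x.2, mul_mem (hAT x.1.2) (hBT x.2.2)⟩ : T)) := by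
      rintro ⟨a, b⟩ ⟨a', b'⟩ h
      have h' : (a : G) * b = a' * b' := congrArg Subtype.val h
      have hm : (a' : G)⁻¹ * a ∈ A ⊓ B := by
        refine mem_inf.2 ⟨mul_mem (inv_mem a'.2) a.2, ?_⟩
        rw [show (a' : G)⁻¹ * a = b' * (b : G)⁻¹ by
          rw [eq_mul_inv_iff_mul_eq, mul_assoc, h', inv_mul_cancel_left]]
        exact mul_mem b'.2 (inv_mem b.2)
      rw [hAB, mem_bot, inv_mul_eq_one] at hm
      rw [hm, mul_right_inj] at h'
      exact Prod.ext (Subtype.ext hm.symm) (Subtype.ext h')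
    have h := Nat.card_le_card_of_injective _ hinj
    rw [Nat.card_prod, hcB, ← hcardT] at h
    exact Nat.le_of_mul_le_mul_left h Nat.card_pos
  rcases (show Nat.card A = 1 ∨ Nat.card A = 2 by have := Nat.card_pos (α := A); omega) with hA1 | hA2'
  · -- symmetric of degree three
    right; left
    rw [hA1, one_mul] at hcardT
    let ρ := MulAction.toPermHom ↥H (↥H ⧸ T.subgroupOf H)
    have hker : ρ.ker = ⊥ := by
      have e : A.subgroupOf H = ρ.ker := by
        rw [hA, coreIn, Subgroup.subgroupOf, Subgroup.comap_map_eq_self_of_injective H.subtype_injective,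
          Subgroup.normalCore_eq_ker]
      rw [← e, subgroupOf_eq_bot]
      rw [(eq_bot_of_card_eq A hA1)]
      exact disjoint_bot_left
    have hY : Nat.card (↥H ⧸ T.subgroupOf H) = 3 := P.indH
    have hb : Function.Bijective ρ := by
      refine ((MonoidHom.ker_eq_bot_iff ρ).1 hker).bijective_of_nat_card_le ?_
      rw [Nat.card_perm, hY, ← hcardH, ← hcardT]
      decide
    exact ⟨(MulEquiv.ofBijective ρ hb).trans (Finite.equivFinOfCardEq hY).permCongrHom⟩
  -- dihedral of order twelve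
  right; right; left
  have hT4 : Nat.card T = 2 ^ 2 := by rw [← hcardT, hA2']; norm_num
  obtain ⟨a, ha, ha1⟩ := A.bot_or_exists_ne_one.resolve_left fun h => by rw [h, card_bot] at hA2'; omega
  obtain ⟨s, hs, hs1⟩ := B.bot_or_exists_ne_one.resolve_left fun h => by rw [h, card_bot] at hcB; omega
  have hinv : ∀ {M : Subgroup G}, Nat.card M = 2 → ∀ x ∈ M, x * x = 1 := fun {M} hM x hx => by
    have := pow_card_eq_one' (x := (⟨x, hx⟩ : M))
    rw [hM, pow_two] at this
    exact congrArg Subtype.val this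
  have haa := hinv hA2' a ha
  have hss := hinv (hcB.trans hA2') s hs
  have hsa : s ∉ A := fun h => hs1 (by
    have : s ∈ A ⊓ B := mem_inf.2 ⟨h, hs⟩
    rwa [hAB, mem_bot] at this)
  haveI := IsPGroup.isMulCommutative_of_card_eq_prime_sq (p := 2) hT4
  have hsac : s * a = a * s :=
    congrArg Subtype.val (IsMulCommutative.is_comm.comm (⟨s, hBT hs⟩ : T) ⟨a, hAT ha⟩)
  have hda : Commute d a := (mem_centralizer_iff.1 hdA a ha).symm
  set r := d * a with hr
  have hro : orderOf r = 6 := by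
    have hao : orderOf a = 2 := orderOf_eq_prime (by rw [pow_two]; exact haa) ha1
    rw [hr, hda.orderOf_mul_eq_mul_orderOf_of_coprime (by rw [hd, hao]; norm_num), hd, hao]
  have hrH : r ∈ H := mul_mem hdH (P.leH (hAT ha))
  have hsH : s ∈ H := P.leH (hBT hs)
  have hH12 : Nat.card H = 12 := by rw [← hcardH, hT4]; norm_num
  have hR : (zpowers (⟨r, hrH⟩ : H)).index = 2 := by
    have h := (zpowers (⟨r, hrH⟩ : H)).card_mul_index
    rw [Nat.card_zpowers, Subgroup.orderOf_mk, hro, hH12] at h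
    omega
  have hmemR : ∀ x ∈ zpowers r, x = 1 ∨ x = d ∨ x = d ^ 2 ∨ x = a ∨ x = d * a ∨ x = d ^ 2 * a := by
    rintro _ ⟨i, rfl⟩
    have hd3 : d ^ 3 = 1 := hd ▸ pow_orderOf_eq_one d
    have ha2 : a ^ 2 = 1 := by rw [pow_two]; exact haa
    have e : r ^ i = r ^ (i % 6).toNat := by
      rw [← zpow_natCast, Int.toNat_of_nonneg (Int.emod_nonneg _ (by norm_num)), ← zpow_mod_orderOf, hro]
      rfl
    simp only
    rw [e]
    have hlt : (i % 6).toNat < 6 := by omega
    generalize (i % 6).toNat = j at hlt ⊢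
    rw [hr, hda.mul_pow]
    have hd4 : d ^ 4 = d := by rw [pow_succ, hd3, one_mul]
    have hd5 : d ^ 5 = d ^ 2 := by rw [pow_add d 3 2, hd3, one_mul]
    have ha3 : a ^ 3 = a := by rw [pow_succ, ha2, one_mul]
    have ha4 : a ^ 4 = 1 := by rw [pow_add a 2 2, ha2, one_mul]
    have ha5 : a ^ 5 = a := by rw [pow_succ, ha4, one_mul]
    interval_cases j <;> simp [hd3, hd4, hd5, ha2, ha3, ha4, ha5]
  have hsr : s ∉ zpowers r := by
    intro h
    have hst := hBT hs
    have hdt : ∀ u ∈ T, d * u ∉ T := fun u hu h' => hdT (by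
      simpa using mul_mem h' (inv_mem hu))
    have hd2 : d ^ 2 ∉ T := fun h' => hdT (by
      have e : d = (d ^ 2) ^ 2 := by
        rw [← pow_mul, pow_add d 3 1, show d ^ 3 = 1 from hd ▸ pow_orderOf_eq_one d, one_mul, pow_one]
      rw [e]; exact pow_mem h' 2)
    rcases hmemR s h with e | e | e | e | e | e
    · exact hs1 e
    · exact hdT (e ▸ hst)
    · exact hd2 (e ▸ hst)
    · exact hsa (e ▸ ha)
    · exact hdt a (hAT ha) (e ▸ hst)
    · exact hd2 (by simpa using mul_mem (e ▸ hst : d ^ 2 * a ∈ T) (inv_mem (hAT ha)))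
  have hconj : s * r * s = r⁻¹ := by
    haveI : (zpowers (⟨r, hrH⟩ : H)).Normal := normal_of_index_eq_two hR
    have hd' : (⟨d, hdH⟩ : H) ∈ zpowers (⟨r, hrH⟩ : H) := by
      refine ⟨4, Subtype.ext ?_⟩
      show r ^ (4 : ℤ) = d
      rw [show (4 : ℤ) = ((4 : ℕ) : ℤ) from rfl, zpow_natCast, hr, hda.mul_pow, pow_add d 3 1,
        show d ^ 3 = 1 from hd ▸ pow_orderOf_eq_one d, one_mul, pow_one,
        show a ^ 4 = 1 by rw [pow_mul a 2 2, pow_two a, haa, one_pow], mul_one]
    obtain ⟨i, hi⟩ := Normal.conj_mem inferInstance _ hd' (⟨s, hsH⟩ : H)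
    have hi' : r ^ i = s * d * s⁻¹ := congrArg Subtype.val hi
    have hord : orderOf (s * d * s⁻¹) = 3 := by
      rw [show s * d * s⁻¹ = MulAut.conj s d from rfl, MulEquiv.orderOf_eq, hd]
    have hd3 : d ^ 3 = 1 := hd ▸ pow_orderOf_eq_one d
    have hsd : s * d * s⁻¹ = d ^ 2 := by
      rcases hmemR _ ⟨i, hi'⟩ with e | e | e | e | e | e
      · rw [e, orderOf_one] at hord; omega
      · exfalso
        have hcomm : Commute s d := mul_inv_eq_iff_eq_mul.1 e
        have hTd : ∀ x ∈ T, Commute d x := by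
          set M := T ⊓ centralizer ({d} : Set G) with hM
          have hMT : M ≤ T := inf_le_left
          have hcard : Nat.card M = Nat.card T := by
            have hdvd := card_dvd_of_le hMT
            have h3 : 2 < Nat.card M := by
              haveI := Fintype.ofFinite M
              rw [Nat.card_eq_fintype_card, Fintype.two_lt_card_iff]
              refine ⟨1, ⟨a, mem_inf.2 ⟨hAT ha, mem_centralizer_singleton_iff.2 hda.eq.symm⟩⟩,
                ⟨s, mem_inf.2 ⟨hBT hs, mem_centralizer_singleton_iff.2 hcomm.eq⟩⟩,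
                fun e => ha1 (congrArg Subtype.val e).symm, fun e => hs1 (congrArg Subtype.val e).symm,
                fun e => hsa (?_ : s ∈ A)⟩
              rw [← show a = s from congrArg Subtype.val e]; exact ha
            rw [hT4] at hdvd ⊢
            obtain ⟨j, hj, hj'⟩ := (Nat.dvd_prime_pow Nat.prime_two).1 hdvd
            rw [hj'] at h3 ⊢
            interval_cases j <;> norm_num at h3 <;> rfl
          intro x hx
          rw [← eq_of_le_of_card_ge hMT hcard.ge] at hx
          exact (mem_centralizer_singleton_iff.1 (mem_inf.1 hx).2).symm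
        have : H ≤ normalizer (T : Set G) := by
          refine hgen le_normalizer (mem_normalizer_iff.2 fun x => ⟨fun hx => ?_, fun hx => ?_⟩)
          · rw [(hTd x hx).eq, mul_inv_cancel_right]; exact hx
          · have e := (hTd _ hx).eq
            have : x = d * x * d⁻¹ := by
              calc x = d⁻¹ * (d * x * d⁻¹ * d) := by group
                _ = d⁻¹ * (d * (d * x * d⁻¹)) := by rw [e]
                _ = d * x * d⁻¹ := by group
            rw [this]; exact hx
        have hle : T ≤ A := fun x hx => mem_coreIn.2 ⟨P.leH hx, fun m hm =>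
          (mem_normalizer_iff.1 (this hm) x).1 hx⟩
        exact hsa (hle (hBT hs))
      · exact e
      all_goals exfalso
      · rw [e, orderOf_eq_prime (p := 2) (by rw [pow_two]; exact haa) ha1] at hord; omega
      · rw [e] at hord; rw [← hr, hro] at hord; omega
      · have h6 : orderOf (d ^ 2 * a) = 6 := by
          have hd2 : orderOf (d ^ 2) = 3 := by
            rw [orderOf_pow' _ (by norm_num), hd]; norm_num
          have hao : orderOf a = 2 := orderOf_eq_prime (by rw [pow_two]; exact haa) ha1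
          rw [(hda.pow_left 2).orderOf_mul_eq_mul_orderOf_of_coprime (by rw [hd2, hao]; norm_num), hd2, hao]
        rw [e, h6] at hord; omega
    have hsi : s⁻¹ = s := inv_eq_of_mul_eq_one_right hss
    have hai : a⁻¹ = a := inv_eq_of_mul_eq_one_right haa
    have hdi : d⁻¹ = d ^ 2 := inv_eq_of_mul_eq_one_right (by rw [← pow_succ', hd3])
    rw [hr, mul_inv_rev, hai, hdi, ← (hda.pow_left 2).eq, ← hsd, hsi]
    simp only [mul_assoc]
    rw [hsac]
  refine CfsgLib.Classical.dihedral_of_rotation (r := (⟨r, hrH⟩ : H)) (s := ⟨s, hsH⟩) (by norm_num)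
    (by rw [Subgroup.orderOf_mk]; exact hro) (Subtype.ext hss) (Subtype.ext hconj) ?_ (by rw [hH12])
  rintro ⟨i, hi⟩
  exact hsr ⟨i, congrArg Subtype.val hi⟩

/-- The main statement. -/
theorem main (H K : Subgroup G) (g : G) (hconj : K = H.map (MulAut.conj g).toMonoidHom)
    (hgen : H ⊔ K = ⊤) (hcore : ∀ N : Subgroup G, N.Normal → N ≤ H → N = ⊥)
    (hH : (H ⊓ K).relIndex H = 3) (hK : (H ⊓ K).relIndex K = 3) : Five H := by
  have P : Pair H K (H ⊓ K) := ⟨rfl, hH, hK, fun N hN h1 h2 => hcore N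
    (normalizer_eq_top_iff.1 (eq_top_iff.2 (hgen ▸ sup_le (le_normalizer_of_conj h1) (le_normalizer_of_conj h2))))
    (hN.trans inf_le_left)⟩
  obtain ⟨c, hc, hcT⟩ := P.exists_fix g hconj
  rcases P.vertex c hc hcT with h | h1
  · exact h
  have hc' : H = K.map (MulAut.conj c⁻¹).toMonoidHom := by
    rw [hc]; ext x; simp [Subgroup.mem_map, mul_assoc]
  rcases P.symm.vertex c⁻¹ hc' (fun x => by
    have := hcT (c⁻¹ * x * c⁻¹⁻¹)
    simp [mul_assoc] at this
    simpa [mul_assoc] using this.symm) with h | h2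
  · refine five_congr ?_ h
    exact (H.equivMapOfInjective (MulAut.conj c).toMonoidHom (MulAut.conj c).injective).trans
      (MulEquiv.subgroupCongr hc.symm)
  have hp : AmalgamZ.PairHyp H K (H ⊓ K) 3 := ⟨Nat.prime_three, by decide, hgen, rfl,
    fun N hN hle => hcore N hN (hle.trans inf_le_left), P.isPGroup, h1, h2⟩
  rcases (AmalgamZ.pair_structure hp).2 with ⟨h4, -⟩ | ⟨⟨e⟩, -⟩
  · exact Or.inr (Or.inr (Or.inr (Or.inl h4)))
  · exact Or.inr (Or.inr (Or.inr (Or.inr ⟨e.trans MulEquiv.prodComm⟩)))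

/-- A primitive group with a suborbit of length three. -/
theorem stabilizer_five {Ω : Type*} [MulAction G Ω] [FaithfulSMul G Ω]
    (hprim : MulAction.IsPreprimitive G Ω) (a b : Ω)
    (h3 : Nat.card (MulAction.orbit (MulAction.stabilizer G a) b) = 3) :
    Five (MulAction.stabilizer G a) := by
  haveI := hprim.toIsPretransitive
  set M := MulAction.stabilizer G a with hM
  set N := MulAction.stabilizer G b with hN
  have hd1 : (M ⊓ N).relIndex M = 3 := (relIndex_stabilizer a b).trans h3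
  obtain ⟨g, hg⟩ := MulAction.exists_smul_eq G a b
  have hNM : N = M.map (MulAut.conj g).toMonoidHom := by
    rw [hN, ← hg, MulAction.stabilizer_smul_eq_stabilizer_map_conj]
  have hcardN : Nat.card N = Nat.card M := by
    rw [hNM, Subgroup.card_map_of_injective (MulAut.conj g).injective]
  have hd2 : (M ⊓ N).relIndex N = 3 := by
    have h1 := card_eq_mul (inf_le_left : M ⊓ N ≤ M)
    have h2 := card_eq_mul (inf_le_right : M ⊓ N ≤ N)
    rw [hcardN, ← h1, hd1] at h2
    exact Nat.eq_of_mul_eq_mul_left Nat.card_pos h2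
  haveI : Nontrivial Ω := ⟨a, b, fun e => by
    subst e
    rw [inf_idem, Subgroup.relIndex_self] at hd1
    omega⟩
  have hne : M ≠ N := fun e => by
    rw [← e, inf_idem, Subgroup.relIndex_self] at hd1
    omega
  have hmax : IsCoatom M := (MulAction.isCoatom_stabilizer_iff_preprimitive G a).mpr hprim
  have hN' : IsCoatom N := (MulAction.isCoatom_stabilizer_iff_preprimitive G b).mpr hprim
  have hgen : M ⊔ N = ⊤ := by
    rcases hmax.le_iff.1 (le_sup_left : M ≤ M ⊔ N) with h | h
    · exact h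
    · rcases hN'.le_iff.1 (h ▸ le_sup_right : N ≤ M) with h' | h'
      · exact absurd h' hmax.ne_top
      · exact absurd h' hne
  refine main M N g hNM hgen (fun K hK hle => ?_) hd1 hd2
  haveI := hK
  exact le_bot_iff.1 ((Subgroup.normal_le_normalCore.2 hle).trans
    (CfsgLib.Solvable.normalCore_stabilizer_eq_bot a).le)

end CfsgLib.SuborbitBound.Three
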